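import Mathlib
import Groth.Agent.IdealStalkLib.Comap

/-!
Schematic density is insensitive to nilpotent thickenings with free graded pieces.
-/

set_option autoImplicit false
set_option backward.isDefEq.respectTransparency false
set_option backward.defeqAttrib.useBackward true
set_option linter.style.haveILetI false

universe u v

open CategoryTheory CategoryTheory.Limits AlgebraicGeometry TopologicalSpace TensorProduct Opposite

noncomputable section

namespace Groth.Agent.DenseGr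

section Algebra

variable {A : Type u} [CommRing A] (J : Ideal A)

/-- Multiplication of a power of the ideal. -/
def mu (k : ℕ) (M : Type u) [AddCommGroup M] [Module A M] : ↥(J ^ k) ⊗[A] M →ₗ[A] M :=
  TensorProduct.lift ((LinearMap.lsmul A M).comp (J ^ k).subtype)

@[simp] theorem mu_tmul (k : ℕ) {M : Type u} [AddCommGroup M] [Module A M] (x : ↥(J ^ k)) (m : M) :
    mu J k M (x ⊗ₜ m) = (x : A) • m := rfl

theorem range_mu (k : ℕ) (M : Type u) [AddCommGroup M] [Module A M] :
    LinearMap.range (mu J k M) = J ^ k • (⊤ : Submodule A M) := by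
  refine le_antisymm ?_ (Submodule.smul_le.2 fun r hr m _ => ⟨(⟨r, hr⟩ : ↥(J ^ k)) ⊗ₜ m, rfl⟩)
  rintro _ ⟨z, rfl⟩
  induction z with
  | zero => rw [map_zero]; exact zero_mem _
  | tmul x m => exact Submodule.smul_mem_smul x.2 Submodule.mem_top
  | add a b ha hb => rw [map_add]; exact add_mem ha hb

theorem mu_injective (k : ℕ) (M : Type u) [AddCommGroup M] [Module A M] [Module.Flat A M] :
    Function.Injective (mu J k M) := by
  have h : Function.Injective ((TensorProduct.lid A M).toLinearMap.comp ((J ^ k).subtype.rTensor M)) := by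
    rw [LinearMap.coe_comp]
    exact (TensorProduct.lid A M).injective.comp
      (Module.Flat.rTensor_preserves_injective_linearMap _ Subtype.val_injective)
  rwa [show (TensorProduct.lid A M).toLinearMap.comp ((J ^ k).subtype.rTensor M) = mu J k M from
    TensorProduct.ext' fun x m => by simp] at h

/-- The step of the induction along the powers of the ideal. -/
theorem mem_succ {ι : Type v} {B : Type u} [AddCommGroup B] [Module A B] [Module.Flat A B]
    {C : ι → Type u} [∀ i, AddCommGroup (C i)] [∀ i, Module A (C i)] [∀ i, Module.Flat A (C i)]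
    (φ : ∀ i, B →ₗ[A] C i) (k : ℕ) (hfree : Module.Free (A ⧸ J) ((A ⧸ J) ⊗[A] ↥(J ^ k)))
    (h0 : ∀ b, (∀ i, φ i b ∈ J • (⊤ : Submodule A (C i))) → b ∈ J • (⊤ : Submodule A B))
    (b : B) (hb : b ∈ J ^ k • (⊤ : Submodule A B)) (hφ : ∀ i, φ i b = 0) :
    b ∈ J ^ (k + 1) • (⊤ : Submodule A B) := by
  rw [← range_mu] at hb
  obtain ⟨z, rfl⟩ := hb
  let N := (A ⧸ J) ⊗[A] ↥(J ^ k)
  let π : ↥(J ^ k) →ₗ[A] N := TensorProduct.mk A (A ⧸ J) ↥(J ^ k) 1
  have hnat' : ∀ i y, φ i (mu J k B y) = mu J k (C i) ((φ i).lTensor _ y) := fun i y => by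
    induction y with
    | zero => simp
    | tmul x m => simp
    | add a b ha hb => simp only [map_add, ha, hb]
  have hnat := fun i => hnat' i z
  have hz : ∀ i, (φ i).lTensor N (π.rTensor B z) = 0 := fun i => by
    have h1 : (φ i).lTensor _ z = 0 := mu_injective J k (C i) (by rw [← hnat, hφ, map_zero])
    rw [← LinearMap.comp_apply, LinearMap.lTensor_comp_rTensor, ← LinearMap.rTensor_comp_lTensor,
      LinearMap.comp_apply, h1, map_zero]
  -- the graded piece of `z` vanishes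
  have hz0 : π.rTensor B z = 0 := by
    let s := Module.Free.chooseBasis (A ⧸ J) N
    let e : N ≃ₗ[A] (Module.Free.ChooseBasisIndex (A ⧸ J) N →₀ A ⧸ J) := s.repr.restrictScalars A
    have hjoint : ∀ (M : Type u) [AddCommGroup M] [Module A M] (w : N ⊗[A] M),
        (∀ a, ((Finsupp.lapply a).comp e.toLinearMap).rTensor M w = 0) → w = 0 := by
      intro M _ _ w hw
      apply (LinearEquiv.rTensor M e).injective
      rw [map_zero]
      apply (TensorProduct.finsuppLeft A A (A ⧸ J) M (Module.Free.ChooseBasisIndex (A ⧸ J) N)).injective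
      rw [map_zero]
      have hcoord : ∀ (a : Module.Free.ChooseBasisIndex (A ⧸ J) N) w',
          (TensorProduct.finsuppLeft A A (A ⧸ J) M (Module.Free.ChooseBasisIndex (A ⧸ J) N) w') a =
            (Finsupp.lapply a).rTensor M w' := fun a w' => by
        induction w' with
        | zero => simp
        | tmul x m => simp [TensorProduct.finsuppLeft_apply_tmul_apply]
        | add p q hp hq => simp only [map_add, Finsupp.add_apply, hp, hq]
      refine Finsupp.ext fun a => ?_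
      rw [Finsupp.zero_apply, hcoord, ← hw a, LinearMap.rTensor_comp, LinearMap.comp_apply]
      rfl
    refine hjoint B _ fun a => ?_
    let c := (Finsupp.lapply a).comp e.toLinearMap
    let w := c.rTensor B (π.rTensor B z)
    have hsurj : ∀ x : (A ⧸ J) ⊗[A] B, ∃ m, (1 : A ⧸ J) ⊗ₜ[A] m = x := fun x => by
      obtain ⟨m, hm⟩ := Submodule.Quotient.mk_surjective _ (TensorProduct.quotTensorEquivQuotSMul B J x)
      refine ⟨m, (TensorProduct.quotTensorEquivQuotSMul B J).injective ?_⟩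
      rw [← map_one (Ideal.Quotient.mk J), TensorProduct.quotTensorEquivQuotSMul_mk_tmul, one_smul]
      exact hm
    obtain ⟨m, hm⟩ := hsurj w
    have hm' : m ∈ J • (⊤ : Submodule A B) := h0 m fun i => by
      have h2 : (φ i).lTensor (A ⧸ J) w = 0 := by
        rw [← LinearMap.comp_apply, LinearMap.lTensor_comp_rTensor, ← LinearMap.rTensor_comp_lTensor,
          LinearMap.comp_apply, hz, map_zero]
      rw [← hm] at h2
      have h3 := congrArg (TensorProduct.quotTensorEquivQuotSMul (C i) J) h2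
      rw [map_zero] at h3
      simpa [Submodule.Quotient.mk_eq_zero] using h3
    show w = 0
    rw [← hm]
    apply (TensorProduct.quotTensorEquivQuotSMul B J).injective
    rw [map_zero]
    simpa [Submodule.Quotient.mk_eq_zero] using hm'
  -- hence the element lies one step lower
  let Q := B ⧸ (J ^ (k + 1) • (⊤ : Submodule A B))
  let β : ↥(J ^ k) →ₗ[A] B →ₗ[A] Q :=
    ((LinearMap.llcomp A B B Q) (Submodule.mkQ _)).comp ((LinearMap.lsmul A B).comp (J ^ k).subtype)
  have hβ : J • (⊤ : Submodule A ↥(J ^ k)) ≤ LinearMap.ker β := Submodule.smul_le.2 fun r hr x _ => by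
    rw [LinearMap.mem_ker, map_smul]
    refine LinearMap.ext fun m => ?_
    show r • (Submodule.Quotient.mk ((x : A) • m) : Q) = (0 : Q)
    rw [← Submodule.Quotient.mk_smul, Submodule.Quotient.mk_eq_zero, smul_smul, pow_succ']
    exact Submodule.smul_mem_smul (Ideal.mul_mem_mul hr x.2) Submodule.mem_top
  let θ : N ⊗[A] B →ₗ[A] Q := TensorProduct.lift
    (((J • (⊤ : Submodule A ↥(J ^ k))).liftQ β hβ).comp (TensorProduct.quotTensorEquivQuotSMul ↥(J ^ k) J).toLinearMap)
  have hθ : θ (π.rTensor B z) = Submodule.Quotient.mk (mu J k B z) := by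
    clear hz0 hz hnat hφ
    induction z with
    | zero => simp
    | tmul x m =>
      rw [LinearMap.rTensor_tmul, TensorProduct.lift.tmul, LinearMap.comp_apply, mu_tmul]
      have h1 : TensorProduct.quotTensorEquivQuotSMul ↥(J ^ k) J (π x) = Submodule.Quotient.mk x := by
        show TensorProduct.quotTensorEquivQuotSMul ↥(J ^ k) J ((1 : A ⧸ J) ⊗ₜ x) = _
        rw [← map_one (Ideal.Quotient.mk J), TensorProduct.quotTensorEquivQuotSMul_mk_tmul, one_smul]
      rw [LinearEquiv.coe_coe, h1]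
      rfl
    | add p q hp hq => simp only [map_add, hp, hq, Submodule.Quotient.mk_add]
  rw [← Submodule.Quotient.mk_eq_zero, ← hθ, hz0, map_zero]

theorem eq_zero_of_forall {ι : Type v} {B : Type u} [AddCommGroup B] [Module A B] [Module.Flat A B]
    {C : ι → Type u} [∀ i, AddCommGroup (C i)] [∀ i, Module A (C i)] [∀ i, Module.Flat A (C i)]
    (φ : ∀ i, B →ₗ[A] C i) (hJ : IsNilpotent J) (hfree : ∀ k : ℕ, Module.Free (A ⧸ J) ((A ⧸ J) ⊗[A] ↥(J ^ k)))
    (h0 : ∀ b, (∀ i, φ i b ∈ J • (⊤ : Submodule A (C i))) → b ∈ J • (⊤ : Submodule A B))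
    (b : B) (hφ : ∀ i, φ i b = 0) : b = 0 := by
  obtain ⟨n, hn⟩ := hJ
  suffices ∀ k, b ∈ J ^ k • (⊤ : Submodule A B) by
    have := this n
    rwa [hn, Ideal.zero_eq_bot, Submodule.bot_smul, Submodule.mem_bot] at this
  intro k
  induction k with
  | zero => rw [pow_zero, Ideal.one_eq_top, Submodule.top_smul]; exact Submodule.mem_top
  | succ k ih => exact mem_succ J φ k (hfree k) h0 b ih hφ

end Algebra

variable {A : CommRingCat.{u}} (J : Ideal ↑A)

/-- The structure map on sections. -/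
abbrev strMap {Y : Scheme.{u}} (q : Y ⟶ Spec A) (U : Y.Opens) : ↑A →+* Γ(Y, U) :=
  (q.appLE ⊤ U le_top).hom.comp (Scheme.ΓSpecIso A).inv.hom

/-- Sections vanishing on the reduction modulo the ideal. -/
theorem fst_app_eq_zero_iff {Y : Scheme.{u}} (q : Y ⟶ Spec A) (U : Y.affineOpens) (b : Γ(Y, U.1)) :
    (pullback.fst q (Spec.map (CommRingCat.ofHom (Ideal.Quotient.mk J)))).app U.1 b = 0 ↔
      b ∈ J.map (strMap q U.1) := by
  let i := Spec.map (CommRingCat.ofHom (Ideal.Quotient.mk J))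
  haveI : IsClosedImmersion i := IsClosedImmersion.spec_of_surjective _ Ideal.Quotient.mk_surjective
  have hT : IsAffineOpen (⊤ : (Spec A).Opens) := isAffineOpen_top _
  rw [← RingHom.mem_ker, ← Scheme.Hom.ker_apply, Scheme.IdealSheafData.ker_fst_of_isClosedImmersion,
    IdealStalkLib.comap_ideal i.ker q hT U.2 le_top]
  have h1 : i.ker.ideal ⟨⊤, hT⟩ = J.map (Scheme.ΓSpecIso A).inv.hom := by
    rw [Scheme.Hom.ker_apply]
    have hn : (Scheme.ΓSpecIso A).inv ≫ i.app ⊤ =
        CommRingCat.ofHom (Ideal.Quotient.mk J) ≫ (Scheme.ΓSpecIso _).inv :=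
      (Scheme.ΓSpecIso_inv_naturality (CommRingCat.ofHom (Ideal.Quotient.mk J))).symm
    have hbij : Function.Bijective (Scheme.ΓSpecIso A).inv := ConcreteCategory.bijective_of_isIso _
    refine le_antisymm (fun x hx => ?_) (Ideal.map_le_iff_le_comap.2 fun a ha => ?_)
    · obtain ⟨a, rfl⟩ := hbij.2 x
      refine Ideal.mem_map_of_mem _ (Ideal.Quotient.eq_zero_iff_mem.1 ?_)
      apply (ConcreteCategory.bijective_of_isIso (Scheme.ΓSpecIso (CommRingCat.of (↑A ⧸ J))).inv).1
      rw [map_zero]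
      exact (congr(($hn).hom a)).symm.trans hx
    · refine (congr(($hn).hom a)).trans ?_
      show (Scheme.ΓSpecIso (CommRingCat.of (↑A ⧸ J))).inv (Ideal.Quotient.mk J a) = 0
      rw [Ideal.Quotient.eq_zero_iff_mem.2 ha, map_zero]
  rw [h1, Ideal.map_map]

theorem flat_strMap {Y : Scheme.{u}} (q : Y ⟶ Spec A) [Flat q] (U : Y.affineOpens) : (strMap q U.1).Flat :=
  RingHom.Flat.comp (RingHom.Flat.of_bijective (ConcreteCategory.bijective_of_isIso (Scheme.ΓSpecIso A).inv))
    (q.flat_appLE (isAffineOpen_top _) U.2 le_top)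

theorem schDense {X : Scheme.{u}} (p : X ⟶ Spec A) [Flat p] (hJ : IsNilpotent J)
    (hfree : ∀ k : ℕ, Module.Free (↑A ⧸ J) ((↑A ⧸ J) ⊗[↑A] ↥(J ^ k)))
    {ι : Type u} (Z : ι → Scheme.{u}) (v : ∀ i, Z i ⟶ X) [∀ i, Flat (v i ≫ p)]
    (h0 : ∀ (V : (pullback p (Spec.map (CommRingCat.ofHom (Ideal.Quotient.mk J)))).Opens) (t : Γ(pullback p (Spec.map (CommRingCat.ofHom (Ideal.Quotient.mk J))), V)),
      (∀ i, (pullback.map (v i ≫ p) (Spec.map (CommRingCat.ofHom (Ideal.Quotient.mk J))) p (Spec.map (CommRingCat.ofHom (Ideal.Quotient.mk J))) (v i) (𝟙 _) (𝟙 _)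
        (Category.comp_id _) ((Category.comp_id _).trans (Category.id_comp _).symm)).app V t = 0) → t = 0)
    (V : X.Opens) (t : Γ(X, V)) (ht : ∀ i, (v i).app V t = 0) : t = 0 := by
  wlog hV : IsAffineOpen V generalizing V
  · refine TopCat.Sheaf.eq_of_locally_eq' X.sheaf (fun O : {O : X.affineOpens // O.1 ≤ V} => O.1.1) V
      (fun O => homOfLE O.2) (fun z hz => ?_) t 0 fun O => ?_
    · obtain ⟨_, ⟨O, hO, rfl⟩, hzO, hOV⟩ := X.isBasis_affineOpens.exists_subset_of_mem_open hz V.2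
      exact Opens.mem_iSup.2 ⟨⟨⟨O, hO⟩, hOV⟩, hzO⟩
    · refine (this O.1.1 _ (fun i => ?_) O.1.2).trans (map_zero _).symm
      show (v i).app O.1.1 ((X.presheaf.map (homOfLE O.2).op) t) = 0
      rw [← ConcreteCategory.comp_apply, (v i).naturality]
      simp [ht i]
  let U : X.affineOpens := ⟨V, hV⟩
  let κ := Σ i : ι, {W : (Z i).affineOpens // W.1 ≤ v i ⁻¹ᵁ V}
  letI : Algebra ↑A Γ(X, V) := (strMap p V).toAlgebra
  letI : ∀ j : κ, Algebra ↑A Γ(Z j.1, j.2.1.1) := fun j => (strMap (v j.1 ≫ p) j.2.1.1).toAlgebra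
  haveI : Module.Flat ↑A Γ(X, V) := flat_strMap p U
  haveI : ∀ j : κ, Module.Flat ↑A Γ(Z j.1, j.2.1.1) := fun j => flat_strMap (v j.1 ≫ p) j.2.1
  have hcomm : ∀ (j : κ) (a : ↑A),
      (v j.1).appLE V j.2.1.1 j.2.2 (strMap p V a) = strMap (v j.1 ≫ p) j.2.1.1 a := fun j a => by
    show ((p.appLE ⊤ V le_top) ≫ (v j.1).appLE V j.2.1.1 j.2.2) ((Scheme.ΓSpecIso A).inv a) = _
    rw [Scheme.Hom.appLE_comp_appLE]
    rfl
  let φ : ∀ j : κ, Γ(X, V) →ₗ[↑A] Γ(Z j.1, j.2.1.1) := fun j =>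
    { toFun := ((v j.1).appLE V j.2.1.1 j.2.2).hom
      map_add' := map_add _
      map_smul' := fun a x => by
        rw [Algebra.smul_def, map_mul, RingHom.id_apply, Algebra.smul_def]
        exact congrArg (· * _) (hcomm j a) }
  have hmem : ∀ {R : Type u} [CommRing R] [Algebra ↑A R] (x : R),
      x ∈ J • (⊤ : Submodule ↑A R) ↔ x ∈ J.map (algebraMap ↑A R) := fun {R} _ _ x => by
    rw [Ideal.smul_top_eq_map]
    rfl
  refine eq_zero_of_forall J φ hJ hfree (fun b hb => ?_) t fun j => ?_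
  swap
  · show (v j.1).appLE V j.2.1.1 j.2.2 t = 0
    show (Z j.1).presheaf.map _ ((v j.1).app V t) = 0
    rw [ht, map_zero]
  let i₀ := Spec.map (CommRingCat.ofHom (Ideal.Quotient.mk J))
  refine (hmem b).2 ((fst_app_eq_zero_iff J p U b).1 (h0 _ _ fun i => ?_))
  let π := pullback.fst (v i ≫ p) i₀
  let m := pullback.map (v i ≫ p) i₀ p i₀ (v i) (𝟙 _) (𝟙 _)
    (Category.comp_id _) ((Category.comp_id _).trans (Category.id_comp _).symm)
  have hm : m ≫ pullback.fst p i₀ = π ≫ v i := pullback.lift_fst _ _ _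
  have hO : m ⁻¹ᵁ (pullback.fst p i₀ ⁻¹ᵁ V) ≤ (π ≫ v i) ⁻¹ᵁ V := (congrArg (fun f => f ⁻¹ᵁ V) hm).le
  refine TopCat.Sheaf.eq_of_locally_eq' (pullback (v i ≫ p) i₀).sheaf
    (fun W : {W : (Z i).affineOpens // W.1 ≤ v i ⁻¹ᵁ V} => π ⁻¹ᵁ W.1.1) _
    (fun W => homOfLE (((Opens.map π.base).map (homOfLE W.2)).le.trans (congrArg (fun f => f ⁻¹ᵁ V) hm).ge))
    (fun z hz => ?_) _ 0 fun W => ?_
  · obtain ⟨_, ⟨W, hW, rfl⟩, hzW, hWV⟩ := (Z i).isBasis_affineOpens.exists_subset_of_mem_open (hO hz) (v i ⁻¹ᵁ V).2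
    exact Opens.mem_iSup.2 ⟨⟨⟨W, hW⟩, hWV⟩, hzW⟩
  · refine Eq.trans ?_ (map_zero _).symm
    let j : κ := ⟨i, W⟩
    have h0' : φ j b ∈ J.map (strMap (v i ≫ p) W.1.1) := (hmem (φ j b)).1 (hb j)
    have h1 := (fst_app_eq_zero_iff J (v i ≫ p) W.1 ((v i).appLE V W.1.1 W.2 b)).2 h0'
    refine Eq.trans ?_ h1
    show ((pullback.fst p i₀).app V ≫ m.app _ ≫ (pullback (v i ≫ p) i₀).presheaf.map _) b =
      ((v i).appLE V W.1.1 W.2 ≫ π.app W.1.1) b
    simp only [Scheme.Hom.app_eq_appLE, Scheme.Hom.appLE_map, Scheme.Hom.appLE_comp_appLE, hm]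

end Groth.Agent.DenseGr
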